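import Mathlib

set_option autoImplicit false

/-! # Arithmetic of the `{2,3}`-part of `q² - 1` -/

namespace Cfsg.Agent.Lib.Helper48.HallPSL2

/-- the `{2,3}`-part of `q² - 1` -/
def M23 (q : ℕ) : ℕ := 2 ^ (q ^ 2 - 1).factorization 2 * 3 ^ (q ^ 2 - 1).factorization 3

theorem sq_mod_24 (q : ℕ) (h2 : ¬ 2 ∣ q) (h3 : ¬ 3 ∣ q) : q ^ 2 % 24 = 1 := by
  have h : q % 24 = 1 ∨ q % 24 = 5 ∨ q % 24 = 7 ∨ q % 24 = 11 ∨ q % 24 = 13 ∨ q % 24 = 17 ∨
      q % 24 = 19 ∨ q % 24 = 23 := by omega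
  rw [Nat.pow_mod]
  rcases h with h | h | h | h | h | h | h | h <;> rw [h]

theorem arith_M (q : ℕ) (hq : 2 ≤ q) (h2 : ¬ 2 ∣ q) (h3 : ¬ 3 ∣ q) :
    ∃ N' : ℕ, q ^ 2 - 1 = M23 q * N' ∧ ¬ 2 ∣ N' ∧ ¬ 3 ∣ N' ∧ 24 ∣ M23 q := by
  have hq2 : 4 ≤ q ^ 2 := by nlinarith
  have hN0 : q ^ 2 - 1 ≠ 0 := by omega
  have h24 : 24 ∣ q ^ 2 - 1 := by
    have := sq_mod_24 q h2 h3
    omega
  have hM : M23 q ∣ q ^ 2 - 1 := by
    apply Nat.Coprime.mul_dvd_of_dvd_of_dvd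
    · apply Nat.Coprime.pow; norm_num
    · exact Nat.ordProj_dvd _ 2
    · exact Nat.ordProj_dvd _ 3
  obtain ⟨N', hN'⟩ := hM
  have hM23 : M23 q = 2 ^ (q ^ 2 - 1).factorization 2 * 3 ^ (q ^ 2 - 1).factorization 3 := rfl
  have hna := Nat.pow_succ_factorization_not_dvd hN0 Nat.prime_two
  have hnb := Nat.pow_succ_factorization_not_dvd hN0 Nat.prime_three
  generalize (q ^ 2 - 1).factorization 2 = a at hM23 hna
  generalize (q ^ 2 - 1).factorization 3 = b at hM23 hnb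
  have h2' : ¬ 2 ∣ N' := by
    rintro ⟨c, rfl⟩
    apply hna
    rw [hN', hM23]
    exact ⟨3 ^ b * c, by ring⟩
  have h3' : ¬ 3 ∣ N' := by
    rintro ⟨c, rfl⟩
    apply hnb
    rw [hN', hM23]
    exact ⟨2 ^ a * c, by ring⟩
  refine ⟨N', hN', h2', h3', ?_⟩
  have hc : Nat.Coprime 24 N' := by
    have : (24 : ℕ) = 2 ^ 3 * 3 := by norm_num
    rw [this]
    apply Nat.Coprime.mul_left
    · exact Nat.Coprime.pow_left 3 ((Nat.Prime.coprime_iff_not_dvd Nat.prime_two).2 h2')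
    · exact (Nat.Prime.coprime_iff_not_dvd Nat.prime_three).2 h3'
  rw [hN'] at h24
  exact hc.dvd_of_dvd_mul_right h24

/-- prime divisors of `M23 q` -/
theorem prime_dvd_M23 (q r : ℕ) (hr : r.Prime) (h : r ∣ M23 q) : r = 2 ∨ r = 3 := by
  rw [M23] at h
  rcases (Nat.Prime.dvd_mul hr).1 h with h | h
  · left
    exact (Nat.prime_dvd_prime_iff_eq hr Nat.prime_two).1 (hr.dvd_of_dvd_pow h)
  · right
    exact (Nat.prime_dvd_prime_iff_eq hr Nat.prime_three).1 (hr.dvd_of_dvd_pow h)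

/-- order of a Hall `{2,3}`-subgroup -/
theorem card_of_hall (q h idx : ℕ) (hq : 2 ≤ q) (h2 : ¬ 2 ∣ q) (h3 : ¬ 3 ∣ q)
    (hcard : 2 * (h * idx) = q * (q ^ 2 - 1))
    (hh : ∀ r : ℕ, r.Prime → r ∣ h → r = 2 ∨ r = 3) (hi2 : ¬ 2 ∣ idx) (hi3 : ¬ 3 ∣ idx) :
    2 * h = M23 q := by
  obtain ⟨N', hN', h2', h3', -⟩ := arith_M q hq h2 h3
  rw [hN'] at hcard
  -- 2h * idx = M * (q * N')
  have e : (2 * h) * idx = M23 q * (q * N') := by
    have : q * (M23 q * N') = M23 q * (q * N') := by ring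
    rw [← this, ← hcard]; ring
  have hcop1 : Nat.Coprime (2 * h) (q * N') := by
    apply Nat.coprime_of_dvd
    intro k hk hk1 hk2
    have hk23 : k = 2 ∨ k = 3 := by
      rcases (Nat.Prime.dvd_mul hk).1 hk1 with h' | h'
      · left; exact (Nat.prime_dvd_prime_iff_eq hk Nat.prime_two).1 h'
      · exact hh k hk h'
    rcases hk23 with rfl | rfl
    · rcases (Nat.Prime.dvd_mul hk).1 hk2 with h' | h'
      · exact h2 h'
      · exact h2' h'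
    · rcases (Nat.Prime.dvd_mul hk).1 hk2 with h' | h'
      · exact h3 h'
      · exact h3' h'
  have hcop2 : Nat.Coprime (M23 q) idx := by
    apply Nat.coprime_of_dvd
    intro k hk hk1 hk2
    rcases prime_dvd_M23 q k hk hk1 with rfl | rfl
    · exact hi2 hk2
    · exact hi3 hk2
  have d1 : 2 * h ∣ M23 q := hcop1.dvd_of_dvd_mul_right ⟨idx, e.symm⟩
  have d2 : M23 q ∣ 2 * h := hcop2.dvd_of_dvd_mul_right ⟨q * N', e⟩
  exact Nat.dvd_antisymm d1 d2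

theorem M23_pos (q : ℕ) : 0 < M23 q := by unfold M23; positivity

/-- a Hall subgroup is not cyclic -/
theorem not_cyclic_arith (q h : ℕ) (hq : 2 ≤ q) (h2 : ¬ 2 ∣ q) (h3 : ¬ 3 ∣ q)
    (hh : 2 * h = M23 q) (hd : h ∣ (q + 1) / 2 ∨ h ∣ (q - 1) / 2) : False := by
  obtain ⟨N', hN', h2', h3', -⟩ := arith_M q hq h2 h3
  obtain ⟨j, rfl⟩ : ∃ j, q = 2 * j + 1 := ⟨q / 2, by omega⟩
  have e1 : (2 * j + 1 + 1) / 2 = j + 1 := by omega
  have e2 : (2 * j + 1 - 1) / 2 = j := by omega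
  have e3 : (2 * j + 1) ^ 2 - 1 = 4 * j * (j + 1) := by
    have : (2 * j + 1) ^ 2 = 4 * j * (j + 1) + 1 := by ring
    omega
  rw [e1, e2] at hd
  rw [e3, ← hh] at hN'
  have hpos : 0 < h := by
    have := M23_pos (2 * j + 1)
    omega
  rcases hd with ⟨c, hc⟩ | ⟨c, hc⟩
  · apply h2'
    refine ⟨j * c, ?_⟩
    have : h * (2 * (j * c)) = h * N' := by
      have e : 2 * h * N' = 2 * (h * N') := by ring
      rw [e] at hN'
      have : 4 * j * (h * c) = 2 * (h * N') := by rw [← hc]; exact hN'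
      nlinarith
    exact (Nat.eq_of_mul_eq_mul_left hpos this).symm
  · apply h2'
    refine ⟨c * (j + 1), ?_⟩
    have : h * (2 * (c * (j + 1))) = h * N' := by
      have e : 2 * h * N' = 2 * (h * N') := by ring
      rw [e] at hN'
      have : 4 * (h * c) * (j + 1) = 2 * (h * N') := by rw [← hc]; exact hN'
      nlinarith
    exact (Nat.eq_of_mul_eq_mul_left hpos this).symm

/-- a dihedral Hall subgroup forces `3 ∣ q - ε` -/
theorem dihedral_arith (q k : ℕ) (hq : 2 ≤ q) (h2 : ¬ 2 ∣ q) (h3 : ¬ 3 ∣ q)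
    (hh : 2 * (2 * k) = M23 q) (hd : k ∣ (q + 1) / 2 ∨ k ∣ (q - 1) / 2) :
    (3 ∣ q - 1 ∧ q % 4 = 1) ∨ (3 ∣ q + 1 ∧ q % 4 = 3) := by
  obtain ⟨N', hN', h2', h3', h24⟩ := arith_M q hq h2 h3
  have h6 : 6 ∣ k := by
    rw [← hh] at h24
    omega
  rcases hd with hd | hd
  · right
    have := dvd_trans h6 hd
    omega
  · left
    have := dvd_trans h6 hd
    omega

/-- existence in the minus case -/
theorem minus_arith (q : ℕ) (hq : 2 ≤ q) (h2 : ¬ 2 ∣ q) (h3 : ¬ 3 ∣ q) (h31 : 3 ∣ q - 1)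
    (h4 : q % 4 = 1) : ∃ d, d ∣ (q - 1) / 2 ∧ 2 * (2 * d) = M23 q := by
  obtain ⟨N', hN', h2', h3', h24⟩ := arith_M q hq h2 h3
  obtain ⟨i, rfl⟩ : ∃ i, q = 4 * i + 1 := ⟨q / 4, by omega⟩
  obtain ⟨d, hd⟩ : 4 ∣ M23 (4 * i + 1) := dvd_trans (by norm_num) h24
  refine ⟨d, ?_, by rw [hd]; ring⟩
  have e2 : (4 * i + 1 - 1) / 2 = 2 * i := by omega
  have e3 : (4 * i + 1) ^ 2 - 1 = 8 * i * (2 * i + 1) := by
    have : (4 * i + 1) ^ 2 = 8 * i * (2 * i + 1) + 1 := by ring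
    omega
  rw [e2]
  rw [e3] at hN'
  have hcop : Nat.Coprime (M23 (4 * i + 1)) (2 * i + 1) := by
    apply Nat.coprime_of_dvd
    intro r hr hr1 hr2
    unfold M23 at hr1
    rcases (Nat.Prime.dvd_mul hr).1 hr1 with h | h
    · have := (Nat.prime_dvd_prime_iff_eq hr Nat.prime_two).1 (hr.dvd_of_dvd_pow h)
      subst this
      omega
    · have := (Nat.prime_dvd_prime_iff_eq hr Nat.prime_three).1 (hr.dvd_of_dvd_pow h)
      subst this
      omega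
  have hdvd : M23 (4 * i + 1) ∣ 8 * i := hcop.dvd_of_dvd_mul_right ⟨N', hN'⟩
  rw [hd] at hdvd
  obtain ⟨c, hc⟩ := hdvd
  exact ⟨c, by linarith⟩

/-- existence in the plus case -/
theorem plus_arith (q : ℕ) (hq : 2 ≤ q) (h2 : ¬ 2 ∣ q) (h3 : ¬ 3 ∣ q) (h31 : 3 ∣ q + 1)
    (h4 : q % 4 = 3) : ∃ d, d ∣ (q + 1) / 2 ∧ 2 * (2 * d) = M23 q := by
  obtain ⟨N', hN', h2', h3', h24⟩ := arith_M q hq h2 h3
  obtain ⟨i, rfl⟩ : ∃ i, q = 4 * i + 3 := ⟨q / 4, by omega⟩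
  obtain ⟨d, hd⟩ : 4 ∣ M23 (4 * i + 3) := dvd_trans (by norm_num) h24
  refine ⟨d, ?_, by rw [hd]; ring⟩
  have e2 : (4 * i + 3 + 1) / 2 = 2 * (i + 1) := by omega
  have e3 : (4 * i + 3) ^ 2 - 1 = 8 * (i + 1) * (2 * i + 1) := by
    have : (4 * i + 3) ^ 2 = 8 * (i + 1) * (2 * i + 1) + 1 := by ring
    omega
  rw [e2]
  rw [e3] at hN'
  have hcop : Nat.Coprime (M23 (4 * i + 3)) (2 * i + 1) := by
    apply Nat.coprime_of_dvd
    intro r hr hr1 hr2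
    unfold M23 at hr1
    rcases (Nat.Prime.dvd_mul hr).1 hr1 with h | h
    · have := (Nat.prime_dvd_prime_iff_eq hr Nat.prime_two).1 (hr.dvd_of_dvd_pow h)
      subst this
      omega
    · have := (Nat.prime_dvd_prime_iff_eq hr Nat.prime_three).1 (hr.dvd_of_dvd_pow h)
      subst this
      omega
  have hdvd : M23 (4 * i + 3) ∣ 8 * (i + 1) := hcop.dvd_of_dvd_mul_right ⟨N', hN'⟩
  rw [hd] at hdvd
  obtain ⟨c, hc⟩ := hdvd
  exact ⟨c, by linarith⟩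

end Cfsg.Agent.Lib.Helper48.HallPSL2
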