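import Mathlib
import Cfsg.Agent.Lib.Helper97.DihRecog

set_option autoImplicit false

namespace Cfsg.Agent.Lib.Helper48.HallPSL2

open DihedralGroup

/-- a dihedral group of order `2n` has subgroups of every order `2d`, `d ∣ n` -/
theorem exists_dihedral_sub (n d : ℕ) (hn : n ≠ 0) (hd : d ∣ n) :
    ∃ K : Subgroup (DihedralGroup n), Nat.card K = 2 * d := by
  obtain ⟨e, rfl⟩ := hd
  have hd0 : d ≠ 0 := by rintro rfl; simp at hn
  have he0 : e ≠ 0 := by rintro rfl; simp at hn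
  have : NeZero d := ⟨hd0⟩
  have : NeZero (d * e) := ⟨hn⟩
  have hord : orderOf (r ((e : ℕ) : ZMod (d * e))) = d := by
    rw [DihedralGroup.orderOf_r, ZMod.val_natCast, Nat.gcd_comm, ← Nat.gcd_rec,
      Nat.gcd_eq_right (Dvd.intro_left d rfl)]
    exact Nat.mul_div_cancel _ (Nat.pos_of_ne_zero he0)
  have hb : (sr 0 : DihedralGroup (d * e)) * sr 0 = 1 := sr_mul_self 0
  have hcb : (sr 0 : DihedralGroup (d * e)) * r ((e : ℕ) : ZMod (d * e)) * (sr 0)⁻¹ =
      (r ((e : ℕ) : ZMod (d * e)))⁻¹ := by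
    rw [inv_sr, sr_mul_r, sr_mul_sr, inv_r]
    simp
  have hbn : (sr 0 : DihedralGroup (d * e)) ∉ Subgroup.zpowers (r ((e : ℕ) : ZMod (d * e))) := by
    intro h
    obtain ⟨z, hz⟩ := Subgroup.mem_zpowers_iff.1 h
    rw [r_zpow] at hz
    cases hz
  have hinj := Cfsg.Agent.Lib.Helper97.dihHom_injective d _ _ hord hb hcb hbn
  exact ⟨MonoidHom.range _, by
    rw [Nat.card_congr (MonoidHom.ofInjective hinj).symm.toEquiv, DihedralGroup.nat_card]⟩

end Cfsg.Agent.Lib.Helper48.HallPSL2
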