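import Mathlib
import Cfsg.Agent.Lib.Helper48.Hall.Arith
import Cfsg.Agent.Lib.Helper48.Hall.Dih
import Cfsg.Agent.Lib.Helper98.DicksonMax
import Cfsg.Agent.Lib.Helper48.Dickson.TorusMinus2
import Cfsg.Agent.Lib.Helper48.Dickson.TorusPlus
import Cfsg.Agent.Lib.Helper48.Dickson.Packages
import Cfsg.Agent.S0799
import Cfsg.Agent.S0802
import Cfsg.Agent.S0803

set_option autoImplicit false

/-! # Hall `{2,3}`-subgroups of `PSL₂(q)`, `p ≥ 5` -/

namespace Cfsg.Agent.Lib.Helper48.HallPSL2

open Cfsg.Agent.Lib.Helper48.Dickson Cfsg.Agent.Lib.Helper98.DicksonMax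
open scoped commutatorElement

/-- unfolded form of `Cfsg.IsPiHall {2,3} H` -/
def Hall23 {G : Type*} [Group G] (H : Subgroup G) : Prop :=
  (∀ r : ℕ, r.Prime → r ∣ Nat.card H → r ∈ ({2, 3} : Set ℕ)) ∧
    ∀ r : ℕ, r.Prime → r ∈ ({2, 3} : Set ℕ) → ¬ r ∣ H.index

section

variable {F : Type*} [Field F] [Fintype F] (p : ℕ) [Fact p.Prime] [CharP F p]

local notation "SL2" => Matrix.SpecialLinearGroup (Fin 2) F
local notation "PSL2" => Matrix.ProjectiveSpecialLinearGroup (Fin 2) F

include p in
theorem card_facts (hp : 5 ≤ p) :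
    2 ≤ Fintype.card F ∧ ¬ 2 ∣ Fintype.card F ∧ ¬ 3 ∣ Fintype.card F := by
  have pp : p.Prime := Fact.out
  obtain ⟨n, -, hn⟩ := FiniteField.card F p
  refine ⟨Fintype.one_lt_card, ?_, ?_⟩
  · rw [hn]
    intro h
    have := (Nat.prime_dvd_prime_iff_eq Nat.prime_two pp).1 (Nat.prime_two.dvd_of_dvd_pow h)
    omega
  · rw [hn]
    intro h
    have := (Nat.prime_dvd_prime_iff_eq Nat.prime_three pp).1 (Nat.prime_three.dvd_of_dvd_pow h)
    omega

include p in
theorem two_card (hp : 5 ≤ p) :
    2 * Nat.card PSL2 = Fintype.card F * (Fintype.card F ^ 2 - 1) := by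
  obtain ⟨-, h2, -⟩ := card_facts (F := F) p hp
  apply card_psl2_odd
  rcases Nat.even_or_odd (Fintype.card F) with h | h
  · exact absurd h.two_dvd h2
  · exact h

include p in
/-- a subgroup of the right order is a Hall subgroup -/
theorem isPiHall_of_card (hp : 5 ≤ p) (H : Subgroup PSL2)
    (hc : 2 * Nat.card H = M23 (Fintype.card F)) : Hall23 H := by
  obtain ⟨hq, h2, h3⟩ := card_facts (F := F) p hp
  obtain ⟨N', hN', h2', h3', -⟩ := arith_M _ hq h2 h3
  have hG := two_card (F := F) p hp
  have hidx := Subgroup.card_mul_index H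
  have hpos : 0 < Nat.card H := Nat.card_pos
  have e : H.index = Fintype.card F * N' := by
    have : (2 * Nat.card H) * H.index = (2 * Nat.card H) * (Fintype.card F * N') := by
      rw [mul_assoc, hidx, hG, hN', hc]; ring
    exact Nat.eq_of_mul_eq_mul_left (by omega) this
  constructor
  · intro r hr hrd
    have : r ∣ M23 (Fintype.card F) := by rw [← hc]; exact Dvd.dvd.mul_left hrd 2
    rcases prime_dvd_M23 _ r hr this with h | h
    · rw [h]; simp
    · rw [h]; simp
  · intro r hr hr23 hrd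
    rw [e] at hrd
    have hr23' : r = 2 ∨ r = 3 := by simpa using hr23
    rcases hr23' with rfl | rfl
    · rcases (Nat.Prime.dvd_mul hr).1 hrd with h | h
      · exact h2 h
      · exact h2' h
    · rcases (Nat.Prime.dvd_mul hr).1 hrd with h | h
      · exact h3 h
      · exact h3' h

include p in
/-- the order of a Hall subgroup -/
theorem card_of_isPiHall (hp : 5 ≤ p) (H : Subgroup PSL2)
    (hH : Hall23 H) : 2 * Nat.card H = M23 (Fintype.card F) := by
  obtain ⟨hq, h2, h3⟩ := card_facts (F := F) p hp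
  have hG := two_card (F := F) p hp
  have hidx := Subgroup.card_mul_index H
  apply card_of_hall _ _ H.index hq h2 h3
  · rw [hidx, hG]
  · intro r hr hrd
    have := hH.1 r hr hrd
    simpa using this
  · exact hH.2 2 Nat.prime_two (by simp)
  · exact hH.2 3 Nat.prime_three (by simp)

/-- the centralizer of an element of order `3` lies in its torus -/
theorem le_comp2_of_comm (hp : 5 ≤ p) (g : PSL2) (hg : orderOf g = 3) (y : PSL2)
    (hy : y * g = g * y) : y ∈ comp2 g := by
  have pp : p.Prime := Fact.out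
  have hg1 : g ≠ 1 := by
    intro h; rw [h, orderOf_one] at hg; omega
  have hcop : (orderOf g).Coprime p := by
    rw [hg, Nat.coprime_comm]
    apply (Nat.Prime.coprime_iff_not_dvd pp).2
    intro h
    have := Nat.le_of_dvd (by norm_num) h
    omega
  have hT := coprime_of_orderOf p g hg1 hcop
  have hconj : y * g * y⁻¹ = g := by rw [hy]; group
  have hn : y ∈ nrm ((DD (F := F) p).comp g) := by
    rw [(DD (F := F) p).mem_nrm_comp_iff hg1, hconj]
  by_contra hny
  have h := ((DD (F := F) p).t_inv g hg1 hT y hn hny).2 g ((DD (F := F) p).mem_comp g)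
  rw [hconj] at h
  have h2 : g ^ 2 = 1 := by
    rw [pow_two]
    nth_rewrite 1 [h]
    group
  have := orderOf_dvd_of_pow_eq_one h2
  rw [hg] at this
  omega

/-- the order of the torus of an element of order `3` -/
theorem card_comp2_dvd' (hp : 5 ≤ p) (g : PSL2) (hg : orderOf g = 3) :
    Nat.card (comp2 g) ∣ (Fintype.card F + 1) / 2 ∨ Nat.card (comp2 g) ∣ (Fintype.card F - 1) / 2 := by
  have pp : p.Prime := Fact.out
  obtain ⟨hq, h2, h3⟩ := card_facts (F := F) p hp
  have hg1 : g ≠ 1 := by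
    intro h; rw [h, orderOf_one] at hg; omega
  have hcop : (orderOf g).Coprime p := by
    rw [hg, Nat.coprime_comm]
    apply (Nat.Prime.coprime_iff_not_dvd pp).2
    intro h
    have := Nat.le_of_dvd (by norm_num) h
    omega
  have hT := coprime_of_orderOf p g hg1 hcop
  obtain ⟨A, rfl⟩ := mk2_surjective g
  have hA : A ∉ Subgroup.center SL2 := fun h => hg1 ((mk2_eq_one_iff A).2 h)
  have ht := trace_of_coprime p A hA hT
  have hgcd : Nat.gcd 2 (Fintype.card F - 1) = 2 := by
    apply Nat.gcd_eq_left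
    omega
  have := card_comp2_dvd (tPack p) A ht
  rwa [hgcd] at this

/-- a Hall subgroup does not lie in a Borel subgroup -/
theorem not_borel (hp : 5 ≤ p) (H : Subgroup PSL2)
    (hc : 2 * Nat.card H = M23 (Fintype.card F))
    (P : Sylow p PSL2) (K : Subgroup PSL2)
    (hK : K ≤ Subgroup.normalizer ((P : Subgroup PSL2) : Set PSL2)) (e : H ≃* K) : False := by
  obtain ⟨hq, h2, h3⟩ := card_facts (F := F) p hp
  obtain ⟨N', hN', h2', h3', h24⟩ := arith_M _ hq h2 h3
  have hcp : CommPow (Fintype.card F) H :=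
    CommPow.of_equiv e (CommPow.of_le hK (commPow_normalizer_sylow p P))
  have hcop : Nat.Coprime (Fintype.card F) (Nat.card H) := by
    apply Nat.Coprime.symm
    apply Nat.coprime_of_dvd
    intro r hr hr1 hr2
    have : r ∣ M23 (Fintype.card F) := by rw [← hc]; exact Dvd.dvd.mul_left hr1 2
    rcases prime_dvd_M23 _ r hr this with rfl | rfl
    · exact h2 hr2
    · exact h3 hr2
  have hab : ∀ a b : H, a * b = b * a := by
    intro a b
    have h1 : ⁅a, b⁆ ^ (Fintype.card F) = 1 := hcp a b
    have h2 : ⁅a, b⁆ ^ (Nat.card H) = 1 := pow_card_eq_one'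
    have h3 : orderOf ⁅a, b⁆ ∣ 1 := by
      rw [← hcop.gcd_eq_one]
      exact Nat.dvd_gcd (orderOf_dvd_of_pow_eq_one h1) (orderOf_dvd_of_pow_eq_one h2)
    have h4 : ⁅a, b⁆ = 1 := orderOf_eq_one_iff.1 (Nat.dvd_one.1 h3)
    exact (commutatorElement_eq_one_iff_commute.1 h4).eq
  have h3H : 3 ∣ Nat.card H := by
    rw [← hc] at h24
    omega
  have : Fact (Nat.Prime 3) := ⟨Nat.prime_three⟩
  obtain ⟨x, hx⟩ := exists_prime_orderOf_dvd_card' 3 h3H
  have hx' : orderOf (x : PSL2) = 3 := by rw [Subgroup.orderOf_coe, hx]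
  have hle : H ≤ comp2 (x : PSL2) := by
    intro y hy
    apply le_comp2_of_comm p hp _ hx'
    have := hab ⟨y, hy⟩ x
    exact congrArg Subtype.val this
  have hdvd := Subgroup.card_dvd_of_le hle
  apply not_cyclic_arith _ (Nat.card H) hq h2 h3 hc
  rcases card_comp2_dvd' p hp _ hx' with h | h
  · left; exact dvd_trans hdvd h
  · right; exact dvd_trans hdvd h

end

section sub

variable {F : Type*} [Field F] [Fintype F] (p : ℕ) [Fact p.Prime] [CharP F p]

include p in
/-- `p` divides the order of a subgroup of subfield type -/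
theorem dvd_card_subfield (K : Type) [Field K] [Fintype K] (m : ℕ)
    (hK : Fintype.card K ^ m = Fintype.card F) :
    p ∣ Nat.card (Matrix.ProjectiveSpecialLinearGroup (Fin 2) K) * 2 ∧
      p ∣ Nat.card (Matrix.ProjGenLinGroup (Fin 2) K) := by
  have pp : p.Prime := Fact.out
  have hpq : p ∣ Fintype.card F := char_dvd_card p
  rw [← hK] at hpq
  have hpK : p ∣ Fintype.card K := pp.dvd_of_dvd_pow hpq
  constructor
  · have h1 := card_psl2 (F := K)
    have h2 : p ∣ Nat.card (Matrix.ProjectiveSpecialLinearGroup (Fin 2) K) *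
        Nat.gcd 2 (Fintype.card K - 1) := by
      rw [h1]; exact Dvd.dvd.mul_right hpK _
    refine dvd_trans h2 (Nat.mul_dvd_mul_left _ (Nat.gcd_dvd_left _ _))
  · rw [card_pgl2]
    exact Dvd.dvd.mul_right hpK _

end sub

end Cfsg.Agent.Lib.Helper48.HallPSL2
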